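import Groth.Agent.ProjPt.Poly
import Mathlib.AlgebraicGeometry.Morphisms.Smooth
import Mathlib.RingTheory.Smooth.StandardSmooth
import Mathlib.RingTheory.MvPolynomial.Ideal

/-!
The standard charts of projective space, with few imports; projective space is smooth.
-/

set_option autoImplicit false
set_option linter.style.haveILetI false
set_option linter.unusedSectionVars false
set_option backward.isDefEq.respectTransparency false
set_option backward.isDefEq.respectTransparency.types false
set_option maxHeartbeats 1000000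

universe u

open CategoryTheory CategoryTheory.Limits AlgebraicGeometry TopologicalSpace Opposite MvPolynomial
open HomogeneousLocalization (Away)

noncomputable section

namespace Groth.Agent.PnLight

attribute [local instance] MvPolynomial.gradedAlgebra

theorem isStandardSmooth_mvPolynomial (R : Type u) [CommRing R] (ι : Type) [Finite ι] :
    Algebra.IsStandardSmoothOfRelativeDimension (Nat.card ι) R (MvPolynomial ι R) := by
  classical
  have hid : MvPolynomial.aeval (R := R) (MvPolynomial.X : ι → MvPolynomial ι R) = AlgHom.id R _ :=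
    MvPolynomial.algHom_ext fun i => MvPolynomial.aeval_X _ i
  let G : Algebra.Generators R (MvPolynomial ι R) ι :=
    Algebra.Generators.ofSurjective MvPolynomial.X fun x => ⟨x, by rw [hid]; rfl⟩
  let P : Algebra.Presentation R (MvPolynomial ι R) ι PEmpty.{1} :=
    { G with
      relation := PEmpty.elim
      span_range_relation_eq_ker := by
        simp only [Set.range_eq_empty, Ideal.span_empty]
        symm
        rw [← RingHom.injective_iff_ker_eq_bot]
        show Function.Injective (MvPolynomial.aeval (R := R) (MvPolynomial.X : ι → MvPolynomial ι R))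
        rw [hid]
        exact fun a b h => h }
  let Q : Algebra.PreSubmersivePresentation R (MvPolynomial ι R) ι PEmpty.{1} :=
    { P with map := PEmpty.elim, map_inj := fun a => a.elim }
  have hQ : IsUnit Q.jacobian := by
    cases nonempty_fintype PEmpty.{1}
    rw [Q.jacobian_eq_jacobiMatrix_det, Matrix.det_isEmpty, _root_.map_one]
    exact isUnit_one
  exact Algebra.SubmersivePresentation.isStandardSmoothOfRelativeDimension
    ({ Q with jacobian_isUnit := hQ } : Algebra.SubmersivePresentation R (MvPolynomial ι R) ι PEmpty.{1})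
    (by simp [Algebra.Presentation.dimension])

variable (n : ℕ) (R : Type u) [CommRing R]

local notation "𝒢" => CohB1.polyGrading n R
local notation "T" => (MvPolynomial.X : Fin (n + 1) → MvPolynomial (Fin (n + 1)) R)

/-- The standard chart. -/
abbrev D (i : Fin (n + 1)) : (CohB1.ProjSpace n R).Opens := Proj.basicOpen 𝒢 (T i)

/-- The coordinate function `x_l / x_i`. -/
def a (i l : Fin (n + 1)) : Γ(CohB1.ProjSpace n R, D n R i) :=
  (Proj.awayToSection 𝒢 (T i)).hom (ProjPt.crd i l)

theorem a_self (i : Fin (n + 1)) : a n R i i = 1 := by rw [a, ProjPt.crd_self, map_one]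

theorem isAffineOpen_D (i : Fin (n + 1)) : IsAffineOpen (D n R i) := by
  have h : D n R i = (Proj.awayι 𝒢 (T i) (ProjPt.X_mem i) Nat.one_pos).opensRange :=
    (Proj.opensRange_awayι _ _ _ _).symm
  rw [h]
  exact isAffineOpen_opensRange _

theorem exists_mem_D (x : CohB1.ProjSpace n R) : ∃ i, x ∈ D n R i := by
  have h := Proj.iSup_basicOpen_eq_top 𝒢 T (by
    intro p hp
    have hp0 : MvPolynomial.coeff 0 p = 0 := by
      have hp' := (HomogeneousIdeal.mem_irrelevant_iff 𝒢 p).1 hp
      rw [GradedRing.proj_apply] at hp'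
      have h0 : MvPolynomial.homogeneousComponent 0 p = 0 :=
        (MvPolynomial.decomposition.decompose'_apply p 0).symm.trans hp'
      rw [MvPolynomial.homogeneousComponent_zero] at h0
      exact MvPolynomial.C_eq_zero.1 h0
    rw [← Set.image_univ, MvPolynomial.mem_ideal_span_X_image]
    intro m hm
    by_contra! hno
    have : m = 0 := Finsupp.ext fun i => hno i (Set.mem_univ i)
    subst this
    exact MvPolynomial.mem_support_iff.1 hm hp0)
  exact TopologicalSpace.Opens.mem_iSup.1 (show x ∈ ⨆ i, Proj.basicOpen 𝒢 (T i) by rw [h]; trivial)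

/-- The structure map on a chart. -/
abbrev str (i : Fin (n + 1)) : Γ(Spec (CommRingCat.of R), ⊤) →+* Γ(CohB1.ProjSpace n R, D n R i) :=
  ((CohB1.ProjSpace.toSpec n R).appLE ⊤ (D n R i) (by simp)).hom

theorem str_eq (i : Fin (n + 1)) (c : R) :
    str n R i ((Scheme.ΓSpecIso (CommRingCat.of R)).inv c) = (Proj.awayToSection 𝒢 (T i)).hom (ProjPt.cst i c) := by
  let φ : CommRingCat.of R ⟶ Γ(CohB1.ProjSpace n R, D n R i) :=
    CommRingCat.ofHom (ProjPt.cst i) ≫ Proj.awayToSection 𝒢 (T i)
  have h : (D n R i).ι ≫ CohB1.ProjSpace.toSpec n R = (D n R i).toSpecΓ ≫ Spec.map φ := by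
    let e := Proj.basicOpenIsoSpec 𝒢 (T i) (ProjPt.X_mem i) Nat.one_pos
    have h1 : (D n R i).ι = e.hom ≫ Proj.awayι 𝒢 (T i) (ProjPt.X_mem i) Nat.one_pos :=
      (Iso.hom_inv_id_assoc e _).symm
    have h2 : Proj.awayι 𝒢 (T i) (ProjPt.X_mem i) Nat.one_pos ≫ CohB1.ProjSpace.toSpec n R =
        Spec.map (CommRingCat.ofHom (ProjPt.cst i)) := by
      show Proj.awayι 𝒢 (T i) (ProjPt.X_mem i) Nat.one_pos ≫ Proj.toSpecZero 𝒢 ≫ _ = _
      rw [← Category.assoc, Proj.awayι_toSpecZero, ← Spec.map_comp]
      rfl
    rw [h1, Category.assoc, h2, Spec.map_comp, ← Category.assoc]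
    rfl
  have h2 := congrArg (fun g => (Scheme.Hom.appTop g).hom ((Scheme.ΓSpecIso (CommRingCat.of R)).inv c)) h
  dsimp only at h2
  rw [Scheme.Hom.comp_appTop, Scheme.Hom.comp_appTop, CommRingCat.comp_apply, CommRingCat.comp_apply,
    Scheme.Opens.toSpecΓ_appTop, CommRingCat.comp_apply] at h2
  have h3 := ConcreteCategory.congr_hom (Scheme.ΓSpecIso_naturality φ) ((Scheme.ΓSpecIso (CommRingCat.of R)).inv c)
  rw [CommRingCat.comp_apply, CommRingCat.comp_apply, Iso.inv_hom_id_apply] at h3
  rw [h3] at h2
  have h4 := congrArg (D n R i).topIso.hom h2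
  rw [Iso.inv_hom_id_apply] at h4
  refine Eq.trans ?_ h4
  simp only [Scheme.Opens.topIso_hom, Scheme.Opens.ι_appTop, ← CommRingCat.comp_apply]
  show (Scheme.Hom.appLE (CohB1.ProjSpace.toSpec n R) ⊤ (D n R i) (by simp)).hom _ = _
  refine ConcreteCategory.congr_hom ?_ ((Scheme.ΓSpecIso (CommRingCat.of R)).inv c)
  simp only [Scheme.Hom.appLE, Category.assoc, ← Functor.map_comp]
  exact congrArg (fun m => (CohB1.ProjSpace.toSpec n R).appTop ≫ (CohB1.ProjSpace n R).presheaf.map m)
    (Subsingleton.elim _ _)

/-- The polynomial ring of a chart. -/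
def poly (i : Fin (n + 1)) : MvPolynomial (Fin n) R →+* Away 𝒢 (T i) :=
  eval₂Hom (ProjPt.cst i) fun k => ProjPt.crd i (i.succAbove k)

theorem poly_bijective (i : Fin (n + 1)) : Function.Bijective (poly n R i) := by
  let f : MvPolynomial (Fin (n + 1)) R →+* MvPolynomial (Fin n) R :=
    eval₂Hom MvPolynomial.C (i.insertNth 1 (MvPolynomial.X (R := R)))
  have hfi : f (T i) = 1 := by simp [f]
  have hu : IsUnit (f (T i)) := hfi ▸ isUnit_one
  let inv := ProjPt.coordHom 𝒢 f hu
  have h1 : inv.comp (poly n R i) = RingHom.id _ := by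
    refine MvPolynomial.ringHom_ext (fun c => ?_) fun k => ?_
    · show inv (poly n R i (MvPolynomial.C c)) = MvPolynomial.C c
      rw [poly, eval₂Hom_C, ProjPt.coordHom_cst]
      simp [f]
    · show inv (poly n R i (MvPolynomial.X k)) = MvPolynomial.X k
      rw [poly, eval₂Hom_X', ProjPt.coordHom_crd _ _ _ hfi]
      simp [f]
  have h2 : (poly n R i).comp inv = RingHom.id _ := by
    refine ProjPt.away_ext i _ _ (RingHom.ext fun c => ?_) fun k => ?_
    · show poly n R i (inv (ProjPt.cst i c)) = ProjPt.cst i c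
      rw [ProjPt.coordHom_cst]
      simp [f, poly]
    · show poly n R i (inv (ProjPt.crd i k)) = ProjPt.crd i k
      rw [ProjPt.coordHom_crd _ _ _ hfi]
      rcases Fin.eq_self_or_eq_succAbove i k with rfl | ⟨j, rfl⟩
      · simp [f, poly, ProjPt.crd_self]
      · simp [f, poly]
  exact Function.bijective_iff_has_inverse.2
    ⟨inv, fun p => RingHom.congr_fun h1 p, fun z => RingHom.congr_fun h2 z⟩

theorem aeval_bijective (i : Fin (n + 1)) :
    letI := (str n R i).toAlgebra
    Function.Bijective (MvPolynomial.aeval (R := Γ(Spec (CommRingCat.of R), ⊤))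
      fun k => a n R i (i.succAbove k)) := by
  letI := (str n R i).toAlgebra
  let σ := (Scheme.ΓSpecIso (CommRingCat.of R)).commRingCatIsoToRingEquiv.symm
  have hσ : ∀ c, (σ c : Γ(Spec (CommRingCat.of R), ⊤)) = (Scheme.ΓSpecIso (CommRingCat.of R)).inv c := fun c => rfl
  haveI : IsIso (Proj.awayToSection 𝒢 (T i)) :=
    inferInstanceAs (IsIso (Proj.basicOpenIsoAway 𝒢 (T i) (ProjPt.X_mem i) Nat.one_pos).hom)
  have h : (MvPolynomial.aeval (R := Γ(Spec (CommRingCat.of R), ⊤))
      fun k => a n R i (i.succAbove k)).toRingHom.comp (MvPolynomial.map σ.toRingHom) =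
      (Proj.awayToSection 𝒢 (T i)).hom.comp (poly n R i) := by
    refine MvPolynomial.ringHom_ext (fun c => ?_) fun k => ?_
    · show MvPolynomial.aeval (fun k => a n R i (i.succAbove k)) (MvPolynomial.map σ.toRingHom (C c)) =
        ((Proj.awayToSection 𝒢 (T i)).hom (poly n R i (C c)) : Γ(CohB1.ProjSpace n R, D n R i))
      rw [MvPolynomial.map_C, MvPolynomial.aeval_C, poly, eval₂Hom_C]
      exact str_eq n R i c
    · show MvPolynomial.aeval (fun k => a n R i (i.succAbove k)) (MvPolynomial.map σ.toRingHom (X k)) =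
        ((Proj.awayToSection 𝒢 (T i)).hom (poly n R i (X k)) : Γ(CohB1.ProjSpace n R, D n R i))
      rw [MvPolynomial.map_X, MvPolynomial.aeval_X, poly, eval₂Hom_X']
      rfl
  have h2 : Function.Bijective (MvPolynomial.map (σ := Fin n) σ.toRingHom) :=
    ⟨MvPolynomial.map_injective _ σ.injective, MvPolynomial.map_surjective _ σ.surjective⟩
  refine (Function.Bijective.of_comp_iff _ h2).1 ?_
  refine (congrArg Function.Bijective (funext fun p => (RingHom.congr_fun h p).symm)).mp ?_
  exact (ConcreteCategory.bijective_of_isIso (Proj.awayToSection 𝒢 (T i))).comp (poly_bijective n R i)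

instance smoothOfRelativeDimension_toSpec :
    SmoothOfRelativeDimension n (CohB1.ProjSpace.toSpec n R) := by
  refine ⟨fun x => ?_⟩
  obtain ⟨i, hi⟩ := exists_mem_D n R x
  refine ⟨⊤, isAffineOpen_top _, D n R i, isAffineOpen_D n R i, hi, by simp, ?_⟩
  letI := (str n R i).toAlgebra
  have h : Algebra.IsStandardSmoothOfRelativeDimension n Γ(Spec (CommRingCat.of R), ⊤)
      Γ(CohB1.ProjSpace n R, D n R i) := by
    haveI h0 : Algebra.IsStandardSmoothOfRelativeDimension n Γ(Spec (CommRingCat.of R), ⊤)
        (MvPolynomial (Fin n) Γ(Spec (CommRingCat.of R), ⊤)) := by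
      simpa using isStandardSmooth_mvPolynomial Γ(Spec (CommRingCat.of R), ⊤) (Fin n)
    exact Algebra.IsStandardSmoothOfRelativeDimension.of_algEquiv (n := n)
      (AlgEquiv.ofBijective _ (aeval_bijective n R i))
  exact h

end Groth.Agent.PnLight
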